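import Groth.Agent.Neron.K491.PDefs
import Groth.Agent.PRed.K542.Data
import Groth.Agent.PRed.K542.Vect

/-!
# Additive coordinates on smooth affine commutative groups killed by `p`

`exists_vec`: S8235 in terms of additive global functions.
-/

set_option autoImplicit false
universe u

open CategoryTheory CategoryTheory.Limits AlgebraicGeometry MonObj MonoidalCategory CartesianMonoidalCategory
open scoped TensorProduct

namespace K220.Vec
open K491.PDefs Groth.Agent.Books.AffBridge Opposite

variable {K : Type u} [Field K]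

/-- An affine scheme over `Spec K` is the spectrum of an algebra. -/
theorem exists_alg (T : Over (Spec (CommRingCat.of K))) [IsAffine T.left] :
    ∃ (R : Type u) (_ : CommRing R) (_ : Algebra K R), Nonempty (SpecOver K R ≅ T) := by
  obtain ⟨X, ⟨e⟩⟩ := (essImage_algSpec (R := CommRingCat.of K) (G := T)).2 ‹_›
  exact ⟨X.unop, inferInstance, inferInstance, ⟨e⟩⟩

/-- The global function on `Spec A` given by `a`. -/
noncomputable def fn {A : Type u} [CommRing A] [Algebra K A] (a : A) : Γ((SpecOver K A).left, ⊤) :=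
  (Scheme.ΓSpecIso (CommRingCat.of A)).inv.hom a

theorem ev_specMap {A B : Type u} [CommRing A] [Algebra K A] [CommRing B] [Algebra K B] (f : A →ₐ[K] B) (a : A) :
    ev (fn (K := K) a) (specMap K f) = fn (K := K) (f a) := by
  have h := Scheme.ΓSpecIso_inv_naturality (CommRingCat.ofHom f.toRingHom)
  exact congr($(h).hom a).symm

theorem fn_add {A : Type u} [CommRing A] [Algebra K A] (a b : A) :
    fn (K := K) (a + b) = fn a + fn b := map_add _ _ _

theorem fn_str {A : Type u} [CommRing A] [Algebra K A] (c : K) :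
    fn (K := K) (algebraMap K A c) = str K (SpecOver K A) c := by
  have h := Scheme.ΓSpecIso_inv_naturality (CommRingCat.ofHom (algebraMap K A))
  exact congr($(h).hom c)

theorem fn_bijective {A : Type u} [CommRing A] [Algebra K A] : Function.Bijective (fn (K := K) (A := A)) :=
  ConcreteCategory.bijective_of_isIso (Scheme.ΓSpecIso (CommRingCat.of A)).inv

/-- A primitive element is an additive function: points with values in spectra. -/
theorem ev_mul_spec {A B : Type u} [CommRing A] [Bialgebra K A] [CommRing B] [Algebra K B] {x : A}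
    (hx : x ∈ K542.Filt.prim K A) (a b : SpecOver K B ⟶ SpecOver K A) :
    ev (fn (K := K) x) (a * b) = ev (fn (K := K) x) a + ev (fn (K := K) x) b := by
  obtain ⟨f, rfl⟩ := (specEquiv K).surjective a
  obtain ⟨g, rfl⟩ := (specEquiv K).surjective b
  have h1 : specMap K f * specMap K g =
      specMap K (WithConv.toConv f * WithConv.toConv g : WithConv (A →ₐ[K] B)).ofConv :=
    (specMap_mul K (WithConv.toConv f) (WithConv.toConv g)).symm
  change ev (fn (K := K) x) (specMap K f * specMap K g) = ev (fn (K := K) x) (specMap K f) + ev (fn (K := K) x) (specMap K g)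
  rw [h1, ev_specMap, ev_specMap, ev_specMap, ← fn_add]
  congr 1
  rw [AlgHom.convMul_apply, K542.Filt.mem_prim.1 hx]
  simp

/-- A primitive element is an additive function. -/
theorem ev_mul {A : Type u} [CommRing A] [Bialgebra K A] {x : A}
    (hx : x ∈ K542.Filt.prim K A) {T : Over (Spec (CommRingCat.of K))} (a b : T ⟶ SpecOver K A) :
    ev (fn (K := K) x) (a * b) = ev (fn (K := K) x) a + ev (fn (K := K) x) b := by
  refine Scheme.OpenCover.ext_elem _ _ T.left.affineCover fun i => ?_
  rw [map_add]
  let V : Over (Spec (CommRingCat.of K)) := Over.mk (T.left.affineCover.f i ≫ T.hom)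
  let j : V ⟶ T := Over.homMk (T.left.affineCover.f i) rfl
  have hV : IsAffine V.left := inferInstanceAs (IsAffine (T.left.affineCover.X i))
  obtain ⟨R, _, _, ⟨t⟩⟩ := exists_alg V
  change ev (ev (fn (K := K) x) (a * b)) j = ev (ev (fn (K := K) x) a) j + ev (ev (fn (K := K) x) b) j
  rw [← ev_comp, ← ev_comp, ← ev_comp, MonObj.comp_mul]
  have h1 := ev_mul_spec hx (t.hom ≫ j ≫ a) (t.hom ≫ j ≫ b)
  rw [← MonObj.comp_mul, ev_comp (fn x) t.hom, ev_comp (fn x) t.hom (j ≫ a), ev_comp (fn x) t.hom (j ≫ b),
    ← ev_add] at h1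
  have h3 : ∀ f : Γ(V.left, ⊤), ev (ev f t.hom) t.inv = f := by
    intro f
    rw [← ev_comp, t.inv_hom_id]
    change (𝟙 V.left : V.left ⟶ V.left).appTop.hom f = f
    rw [Scheme.Hom.id_appTop]
    rfl
  have h2 := congrArg (fun f => ev f t.inv) h1
  rw [h3, h3] at h2
  exact h2

/-- **(VEC)** smooth, affine, commutative, killed by `p` gives additive coordinates. -/
theorem exists_vec (K : Type u) [Field K] (p : ℕ) [Fact p.Prime] [CharP K p]
    (U : Over (Spec (CommRingCat.of K))) [GrpObj U] [IsCommMonObj U] [IsAffine U.left] [Smooth U.hom]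
    (h : ∀ (T : Over (Spec (CommRingCat.of K))) (x : T ⟶ U), x ^ p = 1) :
    ∃ (n : ℕ) (x : Fin n → Γ(U.left, ⊤)), IsVec K U x := by
  obtain ⟨A, _, _, e, he, hsm, hgen⟩ := K542.Filt.exists_data p U (fun X g h => _root_.mul_comm g h) h
  obtain ⟨n, x, hx, hgx⟩ := K542.Filt.exists_fin_prim (k := K) (A := A) hgen
  refine ⟨n, fun l => ev (fn (K := K) (x l)) e.hom, ‹_›, fun l T a b => ?_, fun B hB hxB => ?_⟩
  · rw [← ev_comp, ← ev_comp, ← ev_comp, MonObj.mul_comp]
    exact ev_mul (hx l) _ _
  · have hei : IsIso e.hom.left := K542.Filt.isIso_left_of_isIso e.hom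
    let ψ : A →+* Γ(U.left, ⊤) :=
      e.hom.left.appTop.hom.comp (Scheme.ΓSpecIso (CommRingCat.of A)).inv.hom
    have hψ : ∀ a : A, ψ a = ev (fn (K := K) a) e.hom := fun a => rfl
    have hs : Function.Surjective ψ := by
      intro f
      have hi : IsIso e.hom.left.appTop := inferInstanceAs (IsIso (e.hom.left.app ⊤))
      obtain ⟨g, hg⟩ := (ConcreteCategory.bijective_of_isIso e.hom.left.appTop).2 f
      obtain ⟨a, rfl⟩ := (fn_bijective (K := K) (A := A)).2 g
      exact ⟨a, hg⟩
    let B' : Subalgebra K A :=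
      { B.comap ψ with
        algebraMap_mem' := fun c => by
          change ψ (algebraMap K A c) ∈ B
          rw [hψ, fn_str, ev_str]
          exact hB c }
    have hB' : B' = ⊤ := by
      rw [eq_top_iff, ← hgx, Algebra.adjoin_le_iff]
      rintro _ ⟨l, rfl⟩
      exact hxB l
    rw [eq_top_iff]
    intro f _
    obtain ⟨a, rfl⟩ := hs f
    have : a ∈ B' := by rw [hB']; trivial
    exact this

end K220.Vec
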